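import Cfsg.Agent.Lib.Compute.Schur.Bound
import Cfsg.Agent.Lib.Compute.Perm
import Cfsg.Agent.Lib.ReeTwo.Basic

/-!
# Packed 52 × 52 matrices over the field with two elements

A matrix is coded by its 52 columns of 52 bits. A product needs 52 shifts and multiplications of long
numbers: the bit in place `j` of every column of the right factor, times column `j` of the left one.
-/

set_option autoImplicit false

namespace Cfsg.Agent.Lib.Compute.Tits

open Cfsg.Lie Cfsg.Agent.Lib.Chev Cfsg.Agent.Lib.ReeTwo
open scoped Matrix

/-- A one at the foot of every column. -/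
def footMask : ℕ := 0x1000000000000100000000000010000000000001000000000000100000000000010000000000001000000000000100000000000010000000000001000000000000100000000000010000000000001000000000000100000000000010000000000001000000000000100000000000010000000000001000000000000100000000000010000000000001000000000000100000000000010000000000001000000000000100000000000010000000000001000000000000100000000000010000000000001000000000000100000000000010000000000001000000000000100000000000010000000000001000000000000100000000000010000000000001000000000000100000000000010000000000001000000000000100000000000010000000000001000000000000100000000000010000000000001000000000000100000000000010000000000001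

/-- The identity. -/
def oneM : ℕ := 0x8000000000000400000000000020000000000001000000000000080000000000004000000000000200000000000010000000000000800000000000040000000000002000000000000100000000000008000000000000400000000000020000000000001000000000000080000000000004000000000000200000000000010000000000000800000000000040000000000002000000000000100000000000008000000000000400000000000020000000000001000000000000080000000000004000000000000200000000000010000000000000800000000000040000000000002000000000000100000000000008000000000000400000000000020000000000001000000000000080000000000004000000000000200000000000010000000000000800000000000040000000000002000000000000100000000000008000000000000400000000000020000000000001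

/-- Matrix times column. -/
noncomputable def mulV (a x : ℕ) : ℕ :=
  Nat.rec (motive := fun _ => ℕ) 0
    (fun j acc => Nat.xor acc (Nat.mul (getP 52 a j) (Nat.land (Nat.shiftRight x j) 1))) 52

/-- Product of matrices. -/
noncomputable def mulM (a b : ℕ) : ℕ :=
  Nat.rec (motive := fun _ => ℕ) 0
    (fun j acc => Nat.xor acc (Nat.mul (getP 52 a j) (Nat.land (Nat.shiftRight b j) footMask))) 52

/-- The action on columns. -/
noncomputable def actM (a x : ℕ) : ℕ :=
  Bool.rec (motive := fun _ => ℕ) x (mulV a x) (Nat.blt x 4503599627370496)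

/-- The operations. -/
noncomputable def ops : Ops where
  mul := mulM
  one := oneM
  act := actM

/-- The first steps of a product with a column. -/
noncomputable def part (a x : ℕ) : ℕ → ℕ
  | 0 => 0
  | j + 1 => part a x j ^^^ getP 52 a j * ((x >>> j) &&& 1)

theorem mulV_eq_part (a x : ℕ) : mulV a x = part a x 52 := by
  suffices H : ∀ n, Nat.rec (motive := fun _ => ℕ) 0
      (fun j acc => Nat.xor acc (Nat.mul (getP 52 a j) (Nat.land (Nat.shiftRight x j) 1))) n = part a x n
    from H 52
  intro n
  induction n with
  | zero => rfl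
  | succ n ih => show Nat.xor _ _ = _; rw [ih]; rfl

theorem getP_lt (c i : ℕ) : getP 52 c i < 2 ^ 52 := by
  rw [getP_eq]; exact Nat.mod_lt _ (by positivity)

theorem bit_eq (x j : ℕ) : (x >>> j) &&& 1 = (x.testBit j).toNat := by
  rw [Nat.shiftRight_eq_div_pow, Nat.and_one_is_mod, Nat.testBit_eq_decide_div_mod_eq]
  rcases Nat.mod_two_eq_zero_or_one (x / 2 ^ j) with h | h <;> simp [h]

theorem part_lt (a x : ℕ) : ∀ n, part a x n < 2 ^ 52
  | 0 => by simp [part]
  | n + 1 => by
    refine Nat.xor_lt_two_pow (part_lt a x n) ?_
    rw [bit_eq]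
    cases x.testBit n
    · simp
    · simpa using getP_lt a n

theorem testBit_packP {w : ℕ} (hw : 0 < w) {f : ℕ → ℕ} : ∀ {n : ℕ}, (∀ i < n, f i < 2 ^ w) → ∀ k,
    (packP w f n).testBit k = (decide (k < w * n) && (f (k / w)).testBit (k % w)) := by
  intro n h k
  by_cases hk : k < w * n
  · have hi : k / w < n := Nat.div_lt_of_lt_mul hk
    rw [decide_eq_true hk, Bool.true_and, ← getP_packP h hi, getP_eq, Nat.testBit_mod_two_pow,
      decide_eq_true (Nat.mod_lt _ hw), Bool.true_and, Nat.testBit_div_two_pow,
      Nat.mod_add_div]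
  · rw [decide_eq_false hk, Bool.false_and, Nat.testBit_lt_two_pow ((packP_lt h).trans_le
      (Nat.pow_le_pow_right (by norm_num) (by omega)))]

theorem packP_xor {w : ℕ} (hw : 0 < w) {f g : ℕ → ℕ} {n : ℕ} (hf : ∀ i < n, f i < 2 ^ w)
    (hg : ∀ i < n, g i < 2 ^ w) : packP w (fun i => f i ^^^ g i) n = packP w f n ^^^ packP w g n := by
  refine Nat.eq_of_testBit_eq fun k => ?_
  rw [testBit_packP hw (fun i hi => Nat.xor_lt_two_pow (hf i hi) (hg i hi)), Nat.testBit_xor,
    Nat.testBit_xor, testBit_packP hw hf, testBit_packP hw hg]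
  cases decide (k < w * n) <;> simp

theorem mul_packP (w : ℕ) (c : ℕ) (f : ℕ → ℕ) : ∀ n, c * packP w f n = packP w (fun i => c * f i) n
  | 0 => by simp [packP]
  | n + 1 => by rw [packP_succ, packP_succ, ← mul_packP w c f n]; ring

theorem footMask_eq : footMask = packP 52 (fun _ => 1) 52 := by decide +kernel

theorem land_footMask (b : ℕ) {j : ℕ} (hj : j < 52) :
    (b >>> j) &&& footMask = packP 52 (fun i => (getP 52 b i >>> j) &&& 1) 52 := by
  refine Nat.eq_of_testBit_eq fun k => ?_
  have h52 : (0 : ℕ) < 52 := by norm_num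
  rw [testBit_packP h52 (fun i _ => (bit_eq _ _).symm ▸ (Bool.toNat_lt _).trans_le (by norm_num)),
    Nat.testBit_and, footMask_eq, testBit_packP h52 (fun _ _ => Nat.one_lt_two_pow (by norm_num)),
    Nat.testBit_shiftRight, Nat.testBit_and, Nat.testBit_shiftRight]
  by_cases hk : k % 52 = 0
  · rw [hk, getP_eq, Nat.testBit_mod_two_pow, decide_eq_true (show j + 0 < 52 by omega),
      Nat.testBit_div_two_pow, Bool.true_and, show j + 0 + 52 * (k / 52) = j + k by omega]
    cases decide (k < 52 * 52) <;> simp
  · have h1 : Nat.testBit 1 (k % 52) = false :=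
      Nat.testBit_lt_two_pow (Nat.one_lt_two_pow hk)
    simp [h1]

theorem mulM_eq (a b : ℕ) : mulM a b = packP 52 (fun i => mulV a (getP 52 b i)) 52 := by
  suffices H : ∀ n, n ≤ 52 → Nat.rec (motive := fun _ => ℕ) 0
      (fun j acc => Nat.xor acc (Nat.mul (getP 52 a j) (Nat.land (Nat.shiftRight b j) footMask))) n =
      packP 52 (fun i => part a (getP 52 b i) n) 52 by
    simp only [mulV_eq_part]; exact H 52 le_rfl
  intro n
  induction n with
  | zero =>
    intro _
    show 0 = _
    simp only [part]
    decide +kernel
  | succ n ih =>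
    intro hn
    show Nat.xor _ (getP 52 a n * ((b >>> n) &&& footMask)) = _
    rw [ih (by omega), land_footMask b (by omega), mul_packP]
    refine (packP_xor (by norm_num) (fun i _ => part_lt _ _ _) fun i _ => ?_).symm
    rw [bit_eq]
    cases (getP 52 b i).testBit n
    · simp
    · simpa using getP_lt a n

theorem vec_zero : vec 0 = 0 := by funext x; simp [vec]

theorem vec_inj {m n : ℕ} (hm : m < 2 ^ 52) (hn : n < 2 ^ 52) (h : vec m = vec n) : m = n := by
  refine Nat.eq_of_testBit_eq fun j => ?_
  by_cases hj : j < 52
  · obtain ⟨x, hx⟩ := exists_idxCode (D := chevF4) (c := j) hj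
    have := congrFun h x
    simp only [vec, hx] at this
    revert this
    cases m.testBit j <;> cases n.testBit j <;> simp
  · rw [Nat.testBit_lt_two_pow (hm.trans_le (Nat.pow_le_pow_right (by norm_num) (by omega))),
      Nat.testBit_lt_two_pow (hn.trans_le (Nat.pow_le_pow_right (by norm_num) (by omega)))]

theorem vec_mod (m : ℕ) : vec (m % 2 ^ 52) = vec m := by
  funext x
  simp only [vec, Nat.testBit_mod_two_pow, decide_eq_true (show idxCode chevF4 x < 52 from idxCode_lt x),
    Bool.true_and]

theorem exists_code (v : chevF4.Idx → ZMod 2) : ∃ m : ℕ, m < 2 ^ 52 ∧ vec m = v := by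
  classical
  let f : ℕ → ℕ := fun i => if ∃ x, idxCode chevF4 x = i ∧ v x = 1 then 1 else 0
  have hf : ∀ i < 52, f i < 2 ^ 1 := fun i _ => by simp only [f]; split <;> norm_num
  refine ⟨packP 1 f 52, by simpa using packP_lt hf, ?_⟩
  funext x
  have hx : idxCode chevF4 x < 52 := idxCode_lt x
  simp only [vec, testBit_packP Nat.one_pos hf, one_mul, Nat.div_one, Nat.mod_one,
    decide_eq_true hx, Bool.true_and, f]
  by_cases h : v x = 1
  · simp [h, idxCode_inj.eq_iff]
  · have h0 : v x = 0 := by revert h; generalize v x = t; revert t; decide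
    simp [h0, idxCode_inj.eq_iff]

/-- The code of a vector. -/
noncomputable def unvec (v : chevF4.Idx → ZMod 2) : ℕ := (exists_code v).choose

theorem unvec_lt (v : chevF4.Idx → ZMod 2) : unvec v < 2 ^ 52 := (exists_code v).choose_spec.1

theorem vec_unvec (v : chevF4.Idx → ZMod 2) : vec (unvec v) = v := (exists_code v).choose_spec.2

theorem unvec_vec {m : ℕ} (hm : m < 2 ^ 52) : unvec (vec m) = m :=
  vec_inj (unvec_lt _) hm (vec_unvec _)

/-- The code of an element. -/
noncomputable def encM (g : GL chevF4.Idx (ZMod 2)) : ℕ :=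
  packP 52 (fun c => unvec ((g : Matrix chevF4.Idx chevF4.Idx (ZMod 2)) *ᵥ bv chevF4 (ZMod 2) c)) 52

theorem getP_encM (g : GL chevF4.Idx (ZMod 2)) {c : ℕ} (hc : c < 52) :
    getP 52 (encM g) c = unvec ((g : Matrix chevF4.Idx chevF4.Idx (ZMod 2)) *ᵥ bv chevF4 (ZMod 2) c) :=
  getP_packP (fun _ _ => unvec_lt _) hc

theorem mod_two_pow_succ' (x n : ℕ) :
    x % 2 ^ (n + 1) = x % 2 ^ n ^^^ 2 ^ n * (x.testBit n).toNat := by
  refine Nat.eq_of_testBit_eq fun k => ?_
  rw [Nat.testBit_xor, Nat.testBit_mod_two_pow, Nat.testBit_mod_two_pow]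
  rcases Nat.lt_trichotomy k n with h | h | h
  · cases x.testBit n <;> simp [h, h.trans n.lt_succ_self, Nat.testBit_two_pow, h.ne']
  · subst h
    cases hb : x.testBit k <;> simp [Nat.testBit_two_pow, hb]
  · cases x.testBit n <;> simp [show ¬ k < n by omega, show ¬ k < n + 1 by omega, Nat.testBit_two_pow, h.ne]

theorem vec_part (g : GL chevF4.Idx (ZMod 2)) (x : ℕ) : ∀ n, n ≤ 52 →
    vec (part (encM g) x n) = (g : Matrix chevF4.Idx chevF4.Idx (ZMod 2)) *ᵥ vec (x % 2 ^ n)
  | 0, _ => by simp [part, Nat.mod_one, vec_zero]
  | n + 1, hn => by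
    rw [part, vec_xor, vec_part g x n (by omega), mod_two_pow_succ', vec_xor, Matrix.mulVec_add, bit_eq,
      getP_encM g (show n < 52 by omega)]
    cases x.testBit n <;> simp [vec_zero, vec_unvec, vec_two_pow]

theorem mulV_encM (g : GL chevF4.Idx (ZMod 2)) (x : ℕ) :
    mulV (encM g) x = unvec ((g : Matrix chevF4.Idx chevF4.Idx (ZMod 2)) *ᵥ vec x) := by
  rw [mulV_eq_part]
  refine vec_inj (part_lt _ _ _) (unvec_lt _) ?_
  rw [vec_part g x 52 le_rfl, vec_unvec, vec_mod]

theorem oneM_eq : oneM = packP 52 (fun c => 2 ^ c) 52 := by decide +kernel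

theorem encM_one : encM 1 = oneM := by
  rw [oneM_eq, encM]
  refine packP_congr fun c hc => ?_
  rw [Units.val_one, Matrix.one_mulVec, ← vec_two_pow, unvec_vec]
  exact Nat.pow_lt_pow_right (by norm_num) hc

theorem encM_inj : Function.Injective encM := by
  intro g h e
  refine Units.ext (matrix_ext fun c hc => ?_)
  have := congrArg (fun a => vec (getP 52 a c)) e
  simpa only [getP_encM _ (show c < 52 from hc), vec_unvec] using this

theorem mulM_encM (g h : GL chevF4.Idx (ZMod 2)) : mulM (encM g) (encM h) = encM (g * h) := by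
  rw [mulM_eq, encM.eq_1 (g * h)]
  refine packP_congr fun c hc => ?_
  rw [getP_encM h hc, mulV_encM, vec_unvec, Units.val_mul, Matrix.mulVec_mulVec]

theorem actM_encM (g : GL chevF4.Idx (ZMod 2)) {x : ℕ} (hx : x < 2 ^ 52) :
    actM (encM g) x = unvec ((g : Matrix chevF4.Idx chevF4.Idx (ZMod 2)) *ᵥ vec x) := by
  rw [actM, show Nat.blt x 4503599627370496 = true from Nat.blt_eq.mpr hx]
  exact mulV_encM g x

theorem actM_of_le (a : ℕ) {x : ℕ} (hx : ¬ x < 2 ^ 52) : actM a x = x := by
  rw [actM, show Nat.blt x 4503599627370496 = false from Bool.eq_false_iff.mpr fun h => hx (Nat.blt_eq.mp h)]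

/-- The coding. -/
noncomputable def coding : Coding (GL chevF4.Idx (ZMod 2)) ops where
  enc := encM
  inj := encM_inj
  mul_enc := mulM_encM
  one_enc := encM_one
  act_one x := by
    show actM oneM x = x
    by_cases hx : x < 2 ^ 52
    · rw [← encM_one, actM_encM 1 hx, Units.val_one, Matrix.one_mulVec, unvec_vec hx]
    · exact actM_of_le _ hx
  act_mul g h x := by
    show actM (encM (g * h)) x = actM (encM g) (actM (encM h) x)
    by_cases hx : x < 2 ^ 52
    · rw [actM_encM _ hx, actM_encM _ hx, actM_encM _ (unvec_lt _), vec_unvec, Units.val_mul,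
        Matrix.mulVec_mulVec]
    · rw [actM_of_le _ hx, actM_of_le _ hx, actM_of_le _ hx]

attribute [irreducible] encM

theorem coding_enc : coding.enc = encM := rfl

/-- The code of a word at parameters `1`. -/
noncomputable def codeOf (l : List ℕ) : ℕ :=
  packP 52 (fun c => appW l (Nat.pow 2 c) % 4503599627370496) 52

theorem encM_W {l : List ℕ} (hl : ∀ r ∈ l, r < 48) : coding.enc (W l) = codeOf l := by
  rw [coding_enc, encM, codeOf, show (4503599627370496 : ℕ) = 2 ^ 52 by norm_num]
  refine packP_congr fun c _ => ?_
  show _ = appW l (2 ^ c) % 2 ^ 52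
  rw [← vec_two_pow, W_mulVec hl, ← vec_mod]
  exact unvec_vec (Nat.mod_lt _ (by positivity))

attribute [irreducible] codeOf

end Cfsg.Agent.Lib.Compute.Tits
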