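import Cfsg.Agent.Lib.Compute.Tits.SchurP3
import Cfsg.Agent.Lib.Compute.Tits.SchurP5

/-! Generated: paths for the fixed point argument on the Tits group. -/

set_option autoImplicit false
set_option maxRecDepth 30000

namespace Cfsg.Agent.Lib.Compute.Tits

/-- Conjugators from the first letter to the elements of the Sylow 3-subgroup. -/
def conjPaths3 : List (List ℕ) :=
  [[140737488355328, 2, 1, 32],
   [1561590605878731, 3657883663357250, 163845, 46],
   [1937187515656301, 3730650502803510, 163847, 32],
   [1638864395717137, 2146117313229686, 1, 32],
   [3834192302399938, 832128258958394, 131207, 46],
   [2637407131238326, 4344278964772896, 131207, 32],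
   [728169381860809, 1124479726004256, 163971, 46],
   [4453657407902609, 3225490879562806, 163845, 32],
   [141842368692224, 482322650147062, 163969, 46],
   [1604772966959617, 1910310184608826, 163845, 46],
   [4392336543665573, 4323327855502944, 3, 46],
   [727877251530827, 2540296020516270, 3, 32],
   [3599708424946261, 1865958899766594, 1, 32],
   [3620189192907215, 916071832173494, 163971, 46],
   [3621635460134638, 384269587168954, 1, 32],
   [3886826345574454, 3223923158059958, 1, 32],
   [1977354778040239, 2660979797578478, 131207, 46],
   [3284966333144494, 3645180996838850, 163845, 46],
   [2495115822841301, 2146117313229686, 163969, 32],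
   [562951469269046, 142117452145722, 163847, 46],
   [1561590605878731, 4398047199234, 131205, 46],
   [570092456347510, 3781308551696386, 131207, 46],
   [1688851239659001, 851558839380000, 163971, 32],
   [1688851247955999, 410895436795830, 163971, 32],
   [3452084230785565, 154283887068162, 1, 46],
   [1977441454121410, 4396725978548256, 163969, 32],
   [3947688199035267, 4324730177871904, 131205, 32]]

/-- The first letter of the Sylow 3-subgroup. -/
def letPath3 : List ℕ := [4372562965160353, 2099650713558624, 3, 32]

/-- Conjugators from the first letter to the elements of the Sylow 5-subgroup. -/
def conjPaths5 : List (List ℕ) :=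
  [[140737488355328, 2, 1, 32],
   [1961534872485888, 1599660170787694, 163845, 32],
   [1046145606748563, 4340931494427502, 163971, 46],
   [118754186362934, 402366118058682, 131205, 32],
   [4153376441851488, 2662719593596512, 131205, 46],
   [3905590950865111, 3730645100531714, 131205, 32],
   [3095316613837647, 2091214948716866, 131207, 46],
   [848908945862059, 198240, 163969, 46],
   [3223829603912221, 4398063812610, 163845, 46],
   [1512685640696097, 728472278658926, 163845, 46],
   [1510024305252713, 2485519662221038, 163971, 32],
   [4376952416788512, 1032406060449376, 163847, 46],
   [2735096758411429, 3267705078203714, 131207, 46],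
   [4496136151933601, 1794272129932896, 163969, 46],
   [155915864523638, 4465311380146208, 163847, 46],
   [1572593775609221, 2660879526463918, 131207, 46],
   [2210646319113824, 3566035742650222, 163969, 46],
   [412170672725167, 427445983594080, 1, 46],
   [3371071150433871, 3788620676278518, 131207, 46],
   [2937047146034665, 2703186635779770, 3, 46],
   [1870614089039872, 848908945763758, 131205, 32],
   [681698725068800, 3764512439775286, 131205, 32],
   [1977441454121410, 2091121786348538, 163847, 32],
   [2937047146034665, 806774005978158, 163971, 46],
   [3293470789042102, 3364054676487776, 131207, 46]]

/-- The first letter of the Sylow 5-subgroup. -/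
def letPath5 : List ℕ := [2708618363662786, 664105301934126, 163845, 32]

def stabPath5 : List ℕ := [140737488355328, 2803710724180918, 131207, 46]

def toStabPath5 : List ℕ := [4142018753979297, 3363680297886446, 131205, 32]

def path13 : List ℕ := [1682143994095305, 3363680297886446, 163847, 32]

def normPath3 : List ℕ := [70374381322272, 4398063321090, 163969, 32]

def toNormPath3 : List ℕ := [3298843500923775, 3580361820825026, 163969, 46]

/-- The exponent of the normalising element. -/
def normExp : ℕ := 9

end Cfsg.Agent.Lib.Compute.Tits
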