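import Mathlib

/-!
# Excluding small two-transitive actions by counting fixed points

If all non-trivial elements of a subgroup `P` are conjugate, Burnside's lemma determines their number of
fixed points modulo `|P|`; in a two-transitive action `π (π - 1)` is at most the order of the centraliser.
-/

set_option autoImplicit false

namespace Cfsg.Agent.Lib.Compute.Tits.Fixed

open MulAction

variable {G Ω : Type*} [Group G] [Finite G] [MulAction G Ω] [Finite Ω]

/-- Number of fixed points. -/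
noncomputable def fixN (Ω : Type*) [MulAction G Ω] (g : G) : ℕ := Nat.card (fixedBy Ω g)

omit [Finite G] [Finite Ω] in
theorem fixN_conj (c g : G) : fixN Ω (c * g * c⁻¹) = fixN Ω g := by
  refine (Nat.card_congr ((MulAction.toPerm c).subtypeEquiv fun a => ?_)).symm
  simp [MulAction.mem_fixedBy, mul_smul]

omit [Finite G] [Finite Ω] in
theorem fixN_of_isConj {z g : G} (h : IsConj z g) : fixN Ω g = fixN Ω z := by
  obtain ⟨c, rfl⟩ := isConj_iff.1 h
  exact fixN_conj c z

omit [Finite G] in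
theorem fixN_lt [FaithfulSMul G Ω] {z : G} (hz : z ≠ 1) : fixN Ω z < Nat.card Ω := by
  refine lt_of_le_of_ne (Finite.card_subtype_le _) fun h => hz ?_
  have := Set.eq_of_subset_of_ncard_le (Set.subset_univ (fixedBy Ω z))
    (by rw [Set.ncard_univ]; exact h.ge) Set.finite_univ
  refine eq_of_smul_eq_smul (α := Ω) fun a => ?_
  rw [one_smul]
  exact (this ▸ Set.mem_univ a : a ∈ fixedBy Ω z)

theorem burnside {P : Subgroup G} {z : G} (h : ∀ g ∈ P, g ≠ 1 → IsConj z g) :
    ∃ k, Nat.card Ω + (Nat.card P - 1) * fixN Ω z = k * Nat.card P := by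
  classical
  haveI := Fintype.ofFinite P
  haveI := Fintype.ofFinite Ω
  haveI : ∀ g : P, Fintype (fixedBy Ω g) := fun g => Fintype.ofFinite _
  haveI : Fintype (Quotient (orbitRel P Ω)) := Fintype.ofFinite _
  have hb := sum_card_fixedBy_eq_card_orbits_mul_card_group P Ω
  refine ⟨Fintype.card (Quotient (orbitRel P Ω)), ?_⟩
  rw [Nat.card_eq_fintype_card (α := P), ← hb, ← Finset.add_sum_erase _ _ (Finset.mem_univ (1 : P))]
  have h1 : Fintype.card (fixedBy Ω (1 : P)) = Nat.card Ω := by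
    rw [← Nat.card_eq_fintype_card]
    exact Nat.card_congr (Equiv.subtypeUnivEquiv fun a => one_smul P a)
  have h2 : ∀ g ∈ Finset.univ.erase (1 : P), Fintype.card (fixedBy Ω g) = fixN Ω z := by
    intro g hg
    rw [← Nat.card_eq_fintype_card]
    exact fixN_of_isConj (h g g.2 fun e => (Finset.mem_erase.1 hg).1 (Subtype.ext e))
  rw [h1, Finset.sum_congr rfl h2, Finset.sum_const, Finset.card_erase_of_mem (Finset.mem_univ _),
    Finset.card_univ, smul_eq_mul]

omit [Finite G] in
theorem fixN_modEq {p : ℕ} [Fact p.Prime] {x : G} {k : ℕ} (hx : x ^ p ^ k = 1) :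
    Nat.card Ω ≡ fixN Ω x [MOD p] := by
  have hP : IsPGroup p (Subgroup.zpowers x) := by
    obtain ⟨i, -, hi⟩ := (Nat.dvd_prime_pow Fact.out).1 (orderOf_dvd_of_pow_eq_one hx)
    exact IsPGroup.of_card (n := i) (by rw [Nat.card_zpowers, hi])
  have e : MulAction.fixedPoints (Subgroup.zpowers x) Ω = fixedBy Ω x := by
    ext a
    refine ⟨fun h => h ⟨x, Subgroup.mem_zpowers x⟩, ?_⟩
    rintro h ⟨g, j, rfl⟩
    exact smul_zpow_eq_of_smul_eq h j
  have := hP.card_modEq_card_fixedPoints Ω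
  rwa [e] at this
where
  smul_zpow_eq_of_smul_eq {x : G} {a : Ω} (h : x • a = a) (j : ℤ) : x ^ j • a = a := by
    have : x ∈ stabilizer G a := h
    exact Subgroup.zpow_mem _ this j

omit [Finite G] in
/-- A fixed-point-free `p`-element normalising `x` makes `p` divide the number of fixed points of `x`. -/
theorem dvd_fixN_of_normalizing {p : ℕ} [Fact p.Prime] {x w : G} {k : ℕ} {e : ℕ}
    (hw : w ^ p ^ k = 1) (hwx : w * x * w⁻¹ = x ^ e) (hfree : fixN Ω w = 0) : p ∣ fixN Ω x := by
  have hmem : ∀ a : Ω, x • a = a → x • (w⁻¹ • a) = w⁻¹ • a := by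
    intro a ha
    have h : (x ^ e) • a = a := Subgroup.pow_mem (stabilizer G a) ha e
    rw [← hwx, mul_smul, mul_smul] at h
    have := congrArg (w⁻¹ • ·) h
    simpa using this
  let σ : Equiv.Perm (fixedBy Ω x) := Equiv.ofBijective (fun a => ⟨w⁻¹ • a.1, hmem a.1 a.2⟩)
    (Finite.injective_iff_bijective.1 fun a b hab =>
      Subtype.ext (MulAction.injective w⁻¹ (congrArg Subtype.val hab)))
  have hσpow : ∀ (j : ℕ) (a : fixedBy Ω x), ((σ ^ j) a).1 = (w⁻¹) ^ j • a.1 := by
    intro j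
    induction j with
    | zero => intro a; simp
    | succ j ih => intro a; rw [pow_succ', pow_succ', Equiv.Perm.mul_apply, mul_smul, ← ih a]; rfl
  have hσ1 : σ ^ p ^ k = 1 := by
    refine Equiv.ext fun a => Subtype.ext ?_
    rw [hσpow, inv_pow, hw, inv_one, one_smul, Equiv.Perm.one_apply]
  have h := fixN_modEq (G := Equiv.Perm (fixedBy Ω x)) (Ω := fixedBy Ω x) hσ1
  have h0 : fixN (fixedBy Ω x) σ = 0 := by
    rw [fixN, Nat.card_eq_zero]
    left
    refine ⟨fun ⟨a, ha⟩ => ?_⟩
    have ha' : w⁻¹ • a.1 = a.1 := congrArg Subtype.val ha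
    have : IsEmpty (fixedBy Ω w) := (Nat.card_eq_zero.1 hfree).resolve_right (not_infinite_iff_finite.2 inferInstance)
    exact this.false ⟨a.1, by rw [mem_fixedBy]; nth_rewrite 1 [← ha']; rw [smul_inv_smul]⟩
  rw [h0] at h
  exact Nat.modEq_zero_iff_dvd.1 h

/-- Ordered pairs of distinct points. -/
theorem ncard_offDiag (s : Set Ω) : s.offDiag.ncard = s.ncard * s.ncard - s.ncard := by
  classical
  haveI := Fintype.ofFinite Ω
  rw [Set.ncard_eq_toFinset_card', Set.ncard_eq_toFinset_card', ← Finset.offDiag_card]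
  congr 1
  ext q
  simp

/-- The two counts in a two-transitive action. -/
theorem two_trans_counts (h2 : IsMultiplyPretransitive G Ω 2) {a b : Ω} (hab : a ≠ b) :
    (Nat.card Ω * Nat.card Ω - Nat.card Ω) * Nat.card (stabilizer G (a, b)) = Nat.card G ∧
      ∀ y : G, fixN Ω y * fixN Ω y - fixN Ω y ≤ Nat.card (Subgroup.centralizer ({y} : Set G)) := by
  rw [is_two_pretransitive_iff] at h2
  have horb : orbit G (a, b) = (Set.univ : Set Ω).offDiag := by
    ext ⟨c, d⟩
    simp only [mem_orbit_iff, Set.mem_offDiag, Set.mem_univ, true_and, Prod.smul_mk, Prod.mk.injEq]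
    exact ⟨fun ⟨g, h1, h3⟩ e => hab (MulAction.injective g (h1.trans (e.trans h3.symm))), fun h => h2 hab h⟩
  refine ⟨?_, fun y => ?_⟩
  · have := (stabilizer G (a, b)).index_mul_card
    rwa [MulAction.index_stabilizer, horb, ncard_offDiag, Set.ncard_univ] at this
  set F := fixedBy Ω y
  set K := stabilizer G (a, b)
  let S : Set G := {g | g • a ∈ F ∧ g • b ∈ F}
  have hex : ∀ q : F.offDiag, ∃ g : G, g • a = q.1.1 ∧ g • b = q.1.2 := fun q => h2 hab q.2.2.2
  choose gq hga hgb using hex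
  have hle : Nat.card (F.offDiag × K) ≤ Nat.card S := by
    have hS : ∀ qk : F.offDiag × K, gq qk.1 * qk.2.1 ∈ S := by
      rintro ⟨q, k, hk⟩
      have hk' : (k • a, k • b) = (a, b) := hk
      simp only [Prod.mk.injEq] at hk'
      simp only [S, Set.mem_setOf_eq, mul_smul, hk'.1, hk'.2, hga, hgb]
      exact ⟨q.2.1, q.2.2.1⟩
    refine Nat.card_le_card_of_injective (fun qk => (⟨_, hS qk⟩ : S)) ?_
    rintro ⟨q, k, hk⟩ ⟨q', k', hk'⟩ e
    have e : gq q * k = gq q' * k' := congrArg Subtype.val e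
    have hka : (k • a, k • b) = (a, b) := hk
    have hka' : (k' • a, k' • b) = (a, b) := hk'
    simp only [Prod.mk.injEq] at hka hka'
    have hq : q = q' := by
      refine Subtype.ext (Prod.ext ?_ ?_)
      · have := congrArg (· • a) e
        simpa [mul_smul, hka.1, hka'.1, hga] using this
      · have := congrArg (· • b) e
        simpa [mul_smul, hka.2, hka'.2, hgb] using this
    subst hq
    obtain rfl := mul_left_cancel e
    rfl
  have hmemK : ∀ g : S, g.1⁻¹ * y * g.1 ∈ K := by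
    rintro ⟨g, hg1, hg2⟩
    show ((g⁻¹ * y * g) • a, (g⁻¹ * y * g) • b) = (a, b)
    rw [mul_smul, mul_smul, mul_smul, mul_smul, show y • g • a = g • a from hg1, show y • g • b = g • b from hg2,
      inv_smul_smul, inv_smul_smul]
  have hle' : Nat.card S ≤ Nat.card K * Nat.card (Subgroup.centralizer ({y} : Set G)) := by
    have hrep : ∀ c : K, ∃ r : G, (∃ g : S, g.1⁻¹ * y * g.1 = c) → r⁻¹ * y * r = c := fun c => by
      by_cases h : ∃ g : S, g.1⁻¹ * y * g.1 = c
      · obtain ⟨g, hg⟩ := h; exact ⟨g.1, fun _ => hg⟩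
      · exact ⟨1, fun h' => absurd h' h⟩
    choose r hr using hrep
    have hC : ∀ g : S, g.1 * (r ⟨_, hmemK g⟩)⁻¹ ∈ Subgroup.centralizer ({y} : Set G) := by
      intro g
      have h := hr ⟨_, hmemK g⟩ ⟨g, rfl⟩
      rw [Subgroup.mem_centralizer_singleton_iff]
      generalize r ⟨_, hmemK g⟩ = t at h ⊢
      calc g.1 * t⁻¹ * y = g.1 * (t⁻¹ * y * t) * t⁻¹ := by group
        _ = g.1 * (g.1⁻¹ * y * g.1) * t⁻¹ := by rw [show t⁻¹ * y * t = g.1⁻¹ * y * g.1 from h]
        _ = y * (g.1 * t⁻¹) := by group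
    rw [← Nat.card_prod]
    refine Nat.card_le_card_of_injective (fun g : S => ((⟨_, hmemK g⟩ : K), (⟨_, hC g⟩ : Subgroup.centralizer ({y} : Set G)))) ?_
    intro g g' e
    simp only [Prod.mk.injEq, Subtype.mk.injEq] at e
    have e1 : (⟨_, hmemK g⟩ : K) = ⟨_, hmemK g'⟩ := Subtype.ext e.1
    rw [e1] at e
    exact Subtype.ext (mul_right_cancel e.2)
  rw [Nat.card_prod] at hle
  have hoff : Nat.card F.offDiag = fixN Ω y * fixN Ω y - fixN Ω y := ncard_offDiag F
  have hK : 0 < Nat.card K := Nat.card_pos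
  rw [← hoff]
  exact Nat.le_of_mul_le_mul_right (hle.trans (hle'.trans (le_of_eq (Nat.mul_comm _ _)))) hK

end Cfsg.Agent.Lib.Compute.Tits.Fixed
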