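import Cfsg.Agent.Lib.Compute.Tits.Cert

/-!
# The coded group is the derived subgroup of `²F₄(2)`
-/

set_option autoImplicit false
set_option maxRecDepth 30000

namespace Cfsg.Agent.Lib.Compute.Tits

open Cfsg.Lie Cfsg.Agent.Lib.Chev Cfsg.Agent.Lib.ReeTwo
open scoped commutatorElement

/-- Six generators of `²F₄(2)`. -/
def gw : List (List ℕ) := [[33, 24], [14, 23], [27, 25, 28], [20, 22, 19], [28, 30], [19, 17]]

/-- The word of a product of generators. -/
def gwW (a : List ℕ) : List ℕ := a.flatMap fun i => gw.getD i []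

/-- The word of a commutator. -/
def comW (a b : List ℕ) : List ℕ := a ++ b ++ a.reverse ++ b.reverse

/-- The generators of the coded group as commutators. -/
def sPairs : List (List ℕ × List ℕ) := [([5, 3], [5, 4]), ([1, 2], [0])]

/-- The generators of the coded group as words. -/
def sWords : List (List ℕ) := sPairs.map fun q => comW (gwW q.1) (gwW q.2)

theorem sWords_lt : ∀ l ∈ sWords, ∀ r ∈ l, r < 48 := by decide +kernel

theorem titsGens_check : pairsEq (sWords.map fun l => (codeOf l, codeOf l.reverse)) titsGens = true := by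
  decide +kernel

theorem titsGens_eq :
    titsGens = sWords.map fun l => (coding.enc (W l), coding.enc (W l)⁻¹) := by
  rw [← pairsEq_eq titsGens_check]
  refine List.map_congr_left fun l hl => ?_
  rw [← W_reverse, encM_W (sWords_lt l hl),
    encM_W (l := l.reverse) fun r hr => sWords_lt l hl r (List.mem_reverse.1 hr)]

theorem gensOK : GensOK coding titsGens := by
  intro p hp
  rw [titsGens_eq] at hp
  obtain ⟨l, -, rfl⟩ := List.mem_map.1 hp
  exact ⟨W l, trivial, rfl, rfl⟩

/-- The coded group. -/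
noncomputable abbrev titsT : Subgroup (GL chevF4.Idx (ZMod 2)) := genGroup coding titsGens

theorem gen_eq {g : GL chevF4.Idx (ZMod 2)} {p : ℕ × ℕ} (hp : p ∈ titsGens) (hg : coding.enc g = p.1) :
    ∃ l ∈ sWords, g = W l := by
  rw [titsGens_eq] at hp
  obtain ⟨l, hl, rfl⟩ := List.mem_map.1 hp
  exact ⟨l, hl, coding.inj hg⟩

theorem W_mem_of_sift {l : List ℕ} (hl : ∀ r ∈ l, r < 48) (h : sift ops titsChain (codeOf l) = true) :
    W l ∈ titsT :=
  good_of_sift coding gensOK titsChain_ok (by rwa [encM_W hl])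

theorem norm_check : (genTab.all fun h => sWords.all fun s =>
    sift ops titsChain (codeOf (h ++ s ++ h.reverse)) && sift ops titsChain (codeOf (h.reverse ++ s ++ h))) = true := by
  decide +kernel

theorem comm_check : (genTab.all fun a => genTab.all fun b => sift ops titsChain (codeOf (comW a b))) = true := by
  decide +kernel

theorem W_comW (a b : List ℕ) : W (comW a b) = ⁅W a, W b⁆ := by
  rw [comW, W_append, W_append, W_append, W_reverse, W_reverse, commutatorElement_def]

/-- The group normalises the coded group. -/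
theorem conj_mem {g : GL chevF4.Idx (ZMod 2)} (hg : g ∈ ree) :
    ∀ x ∈ titsT, g * x * g⁻¹ ∈ titsT ∧ g⁻¹ * x * g ∈ titsT := by
  refine ree_induction (P := fun g => ∀ x ∈ titsT, g * x * g⁻¹ ∈ titsT ∧ g⁻¹ * x * g ∈ titsT)
    (fun x hx => by simpa using hx) (fun a b ha hb x hx => ⟨?_, ?_⟩)
    (fun a ha x hx => by simpa using (ha x hx).symm) (fun h hh x hx => ?_) hg
  · have := (ha _ (hb x hx).1).1
    rwa [show a * b * x * (a * b)⁻¹ = a * (b * x * b⁻¹) * a⁻¹ by group]
  · have := (hb _ (ha x hx).2).2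
    rwa [show (a * b)⁻¹ * x * (a * b) = b⁻¹ * (a⁻¹ * x * a) * b by group]
  · induction hx using Subgroup.closure_induction with
    | mem x hx =>
      obtain ⟨p, hp, he⟩ := hx
      obtain ⟨s, hs, rfl⟩ := gen_eq hp he
      have hc := List.all_eq_true.1 (List.all_eq_true.1 norm_check h hh) s hs
      simp only [Bool.and_eq_true] at hc
      have hlt : ∀ r, r ∈ h ++ s ∨ r ∈ h → r < 48 := by
        rintro r (hr | hr)
        · rcases List.mem_append.1 hr with hr | hr
          exacts [genTab_mem_words h hh r hr, sWords_lt s hs r hr]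
        · exact genTab_mem_words h hh r hr
      rw [← W_reverse, ← W_append, ← W_append, ← W_append, ← W_append]
      refine ⟨W_mem_of_sift (fun r hr => hlt r ?_) hc.1, W_mem_of_sift (fun r hr => hlt r ?_) hc.2⟩
      all_goals simp only [List.mem_append, List.mem_reverse] at hr ⊢; tauto
    | one => simp
    | mul u v _ _ hu hv =>
      exact ⟨by rw [show W h * (u * v) * (W h)⁻¹ = (W h * u * (W h)⁻¹) * (W h * v * (W h)⁻¹) by group]
                exact mul_mem hu.1 hv.1,
        by rw [show (W h)⁻¹ * (u * v) * W h = ((W h)⁻¹ * u * W h) * ((W h)⁻¹ * v * W h) by group]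
           exact mul_mem hu.2 hv.2⟩
    | inv u _ hu =>
      exact ⟨by rw [show W h * u⁻¹ * (W h)⁻¹ = (W h * u * (W h)⁻¹)⁻¹ by group]; exact inv_mem hu.1,
        by rw [show (W h)⁻¹ * u⁻¹ * W h = ((W h)⁻¹ * u * W h)⁻¹ by group]; exact inv_mem hu.2⟩

theorem commutator_mem {g h : GL chevF4.Idx (ZMod 2)} (hg : g ∈ ree) (hh : h ∈ ree) : ⁅g, h⁆ ∈ titsT := by
  have hgen : ∀ b ∈ genTab, ∀ {g : GL chevF4.Idx (ZMod 2)}, g ∈ ree → g ∈ ree ∧ ⁅g, W b⁆ ∈ titsT := by
    intro b hb g hg
    refine ree_induction (P := fun g => g ∈ ree ∧ ⁅g, W b⁆ ∈ titsT) ⟨one_mem _, by simp⟩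
      (fun x y hx hy => ⟨mul_mem hx.1 hy.1, ?_⟩) (fun x hx => ⟨inv_mem hx.1, ?_⟩) (fun a ha => ?_) hg
    · rw [show ⁅x * y, W b⁆ = (x * ⁅y, W b⁆ * x⁻¹) * ⁅x, W b⁆ by simp only [commutatorElement_def]; group]
      exact mul_mem (conj_mem hx.1 _ hy.2).1 hx.2
    · rw [show ⁅x⁻¹, W b⁆ = x⁻¹ * ⁅x, W b⁆⁻¹ * x by simp only [commutatorElement_def]; group]
      exact (conj_mem hx.1 _ (inv_mem hx.2)).2
    · refine ⟨mem_genTab ha, ?_⟩
      rw [← W_comW]
      refine W_mem_of_sift (fun r hr => ?_) (List.all_eq_true.1 (List.all_eq_true.1 comm_check a ha) b hb)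
      simp only [comW, List.mem_append, List.mem_reverse] at hr
      rcases hr with ((hr | hr) | hr) | hr
      exacts [genTab_mem_words a ha r hr, genTab_mem_words b hb r hr, genTab_mem_words a ha r hr,
        genTab_mem_words b hb r hr]
  refine (ree_induction (P := fun h => h ∈ ree ∧ ∀ g ∈ ree, ⁅g, h⁆ ∈ titsT)
    ⟨one_mem _, fun g _ => by simp⟩ (fun x y hx hy => ⟨mul_mem hx.1 hy.1, fun g hg => ?_⟩)
    (fun x hx => ⟨inv_mem hx.1, fun g hg => ?_⟩) (fun b hb => ⟨mem_genTab hb, fun g hg => (hgen b hb hg).2⟩)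
    hh).2 g hg
  · rw [show ⁅g, x * y⁆ = ⁅g, x⁆ * (x * ⁅g, y⁆ * x⁻¹) by simp only [commutatorElement_def]; group]
    exact mul_mem (hx.2 g hg) (conj_mem hx.1 _ (hy.2 g hg)).1
  · rw [show ⁅g, x⁻¹⁆ = x⁻¹ * ⁅g, x⁆⁻¹ * x by simp only [commutatorElement_def]; group]
    exact (conj_mem hx.1 _ (inv_mem (hx.2 g hg))).2
where
  mem_genTab : ∀ {l : List ℕ}, l ∈ genTab → W l ∈ ree := fun {l} hl => by
    simp only [genTab, List.mem_cons, List.not_mem_nil, or_false] at hl
    rcases hl with rfl | rfl | rfl | rfl | rfl | rfl | rfl | rfl | rfl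
    exacts [W_nil ▸ one_mem _, mem_A, mem_A', mem_T, mem_P,
      mem_B (t := 1) (u := 1) (Or.inl rfl) (by decide +kernel), mem_T', mem_P',
      mem_B (t := 1) (u := 1) (Or.inr rfl) (by decide +kernel)]

theorem gwW_mem : ∀ a : List ℕ, W (gwW a) ∈ ree
  | [] => by simp [gwW, W_nil]
  | i :: a => by
    rw [gwW, List.flatMap_cons, W_append]
    refine mul_mem ?_ (gwW_mem a)
    match i with
    | 0 => exact mem_A
    | 1 => exact mem_A'
    | 2 => exact mem_T
    | 3 => exact mem_T'
    | 4 => exact mem_P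
    | 5 => exact mem_P'
    | n + 6 => simp [gw, W_nil]

theorem titsT_eq : titsT = (commutator ↥ree).map ree.subtype := by
  rw [Subgroup.map_subtype_commutator]
  refine le_antisymm ((Subgroup.closure_le _).2 ?_) (Subgroup.commutator_le.2 fun g hg h hh => commutator_mem hg hh)
  rintro g ⟨p, hp, hg⟩
  obtain ⟨l, hl, rfl⟩ := gen_eq hp hg
  obtain ⟨q, -, rfl⟩ := List.mem_map.1 hl
  rw [W_comW]
  exact Subgroup.commutator_mem_commutator (gwW_mem _) (gwW_mem _)

/-- The Tits group as the coded group. -/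
noncomputable def titsEquiv : ↥(commutator ↥(twistedF4 (ZMod 2) 1)) ≃* ↥titsT :=
  ((commutator ↥ree).equivMapOfInjective ree.subtype ree.subtype_injective).trans
    (MulEquiv.subgroupCongr titsT_eq.symm)

theorem card_titsT : Nat.card titsT = 17971200 := by
  rw [card_genGroup coding gensOK titsChain_ok, titsChain_size]

end Cfsg.Agent.Lib.Compute.Tits
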