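import Cfsg.Agent.Lib.Compute.Tits.SchurP2
import Cfsg.Agent.Lib.Compute.Tits.SchurP3
import Cfsg.Agent.Lib.Compute.Tits.SchurP5
import Cfsg.Agent.Lib.Compute.Tits.Image

/-! The Schur multiplier of the Tits group is trivial. -/

set_option autoImplicit false
set_option maxRecDepth 30000

namespace Cfsg.Agent.Lib.Compute.Tits

open Cfsg.Agent.Lib.Compute.Schur

theorem schur_Tits : Cfsg.HasCyclicSchurMultiplier Cfsg.Lie.TitsGroup 1 := by
  have key : Cfsg.HasCyclicSchurMultiplier (genGroup coding titsGens) 1 := ?_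
  · exact Cfsg.Agent.Lib.Schur.hasSchurMultiplier_congr key
      (titsEquiv.symm : ↥(genGroup coding titsGens) ≃* _) (MulEquiv.refl _)
  refine hasCyclicSchurMultiplier_one coding gensOK titsChain_ok titsChain_size
    [titsSchur2, titsSchur3, titsSchur5] ?_ ?_
    (rest_of_factors [2, 3, 5, 13] (by norm_num) ?_ (by decide +kernel))
  · rintro A hA
    simp only [List.mem_cons, List.not_mem_nil, or_false] at hA
    rcases hA with rfl | rfl | rfl
    · exact ⟨Nat.prime_two, titsSchur2_ok⟩
    · exact ⟨Nat.prime_three, titsSchur3_ok⟩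
    · exact ⟨show Nat.Prime 5 by norm_num, titsSchur5_ok⟩
  · rintro A hA
    simp only [List.mem_cons, List.not_mem_nil, or_false] at hA
    rcases hA with rfl | rfl | rfl <;> rfl
  · intro q hq
    fin_cases hq <;> norm_num

end Cfsg.Agent.Lib.Compute.Tits
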