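import Cfsg.Agent.Lib.Compute.Tits.FixedPoints
import Cfsg.Agent.Lib.Compute.Tits.FixedData
import Cfsg.Agent.Lib.Compute.Tits.Image

/-!
# The Tits group has no two-transitive action on at least three points

The degree would be one of a short list of numbers up to 65; counting fixed points of elements of order
3, 5 and 13 excludes them all.
-/

set_option autoImplicit false
set_option maxRecDepth 30000

namespace Cfsg.Agent.Lib.Compute.Tits

open Cfsg.Agent.Lib.Compute.Schur

/-- The element named by a list of points. -/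
noncomputable def elp (xs : List ℕ) : ↥titsT :=
  ⟨(pairOK_pathEval coding gensOK titsChain_ok xs).choose,
    (pairOK_pathEval coding gensOK titsChain_ok xs).choose_spec.1⟩

theorem enc_elp (xs : List ℕ) : coding.enc (elp xs).1 = (pathEval ops titsChain xs).1 :=
  (pairOK_pathEval coding gensOK titsChain_ok xs).choose_spec.2.1

/-- Code of the element named by a list of points. -/
noncomputable def pc (xs : List ℕ) : ℕ := (pathEval ops titsChain xs).1

/-- All listed elements but one are conjugate to `z` by the listed paths. -/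
noncomputable def conjCheck (z : List ℕ) (es : List ℕ) (ps : List (List ℕ)) : Bool :=
  Nat.beq es.length ps.length &&
    (es.zip ps).all fun q => Nat.beq q.1 oneM || Nat.beq (mulM (pc q.2) (pc z)) (mulM q.1 (pc q.2))

theorem conj3_check : conjCheck letPath3 (elems ops titsSchur3.chainP) conjPaths3 = true := by decide +kernel

theorem conj5_check : conjCheck letPath5 (elems ops titsSchur5.chainP) conjPaths5 = true := by decide +kernel

theorem isConj_of_check {z : List ℕ} {es : List ℕ} {ps : List (List ℕ)} (h : conjCheck z es ps = true)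
    {g : ↥titsT} (hg : coding.enc g.1 ∈ es) (h1 : g ≠ 1) : IsConj (elp z) g := by
  simp only [conjCheck, Bool.and_eq_true, List.all_eq_true, Bool.or_eq_true] at h
  obtain ⟨hlen, hall⟩ := h
  have hlen := Nat.eq_of_beq_eq_true hlen
  obtain ⟨i, hi, he⟩ := List.getElem_of_mem hg
  have hq : (es[i], ps[i]'(hlen ▸ hi)) ∈ es.zip ps :=
    List.mem_iff_getElem.2 ⟨i, by simpa [hlen] using hlen ▸ hi, by simp⟩
  rcases hall _ hq with h | h
  · exact absurd (Subtype.ext (coding.inj ((he ▸ Nat.eq_of_beq_eq_true h).trans coding.one_enc.symm))) h1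
  · have h := Nat.eq_of_beq_eq_true h
    refine isConj_iff.2 ⟨elp (ps[i]'(hlen ▸ hi)), ?_⟩
    rw [mul_inv_eq_iff_eq_mul]
    refine Subtype.ext (coding.inj ?_)
    simp only [Subgroup.coe_mul, ← coding.mul_enc, enc_elp, ← he]
    exact h

/-- The subgroup of a multiplier certificate, inside the group. -/
noncomputable def certGroup (A : SchurCert) : Subgroup ↥titsT := (genGroup coding A.X).subgroupOf titsT

theorem certGroup_spec {A : SchurCert} (h : presCheck ops titsChain A = true) :
    Nat.card (certGroup A) = A.R.p ^ A.R.k ∧ ∀ g ∈ certGroup A, coding.enc g.1 ∈ elems ops A.chainP := by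
  simp only [presCheck, Bool.and_eq_true] at h
  obtain ⟨⟨⟨⟨⟨⟨-, hpaths⟩, hch⟩, hsz⟩, -⟩, -⟩, -⟩ := h
  have hpaths := pairsEq_eq hpaths
  have hX : ∀ q ∈ A.X, PairOK coding titsT q := by
    intro q hq
    rw [← hpaths] at hq
    obtain ⟨xs, -, rfl⟩ := List.mem_map.1 hq
    exact pairOK_pathEval coding gensOK titsChain_ok xs
  have hgens : GensOK coding A.X := fun q hq => PairOK.mono coding le_top (hX q hq)
  have hle : genGroup coding A.X ≤ titsT := (Subgroup.closure_le _).2 fun g ⟨q, hq, hg⟩ => by
    obtain ⟨g', hg', e, -⟩ := hX q hq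
    exact coding.inj (hg.trans e.symm) ▸ hg'
  refine ⟨?_, fun g hg => enc_mem_elems coding hgens hch hg⟩
  rw [certGroup, Nat.card_congr (Subgroup.subgroupOfEquivOfLe hle).toEquiv, card_genGroup coding hgens hch,
    Nat.eq_of_beq_eq_true hsz]

/-! ### The centraliser of an element of order five -/

/-- Code of the element of order five fixing the first base point. -/
noncomputable def yCode : ℕ := pc stabPath5

/-- Points of the first orbit fixed by it. -/
noncomputable def fixList : List ℕ :=
  match titsChain with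
  | [] => []
  | l :: _ => (l.orb.toList.map Ent.x).filter fun x => Nat.beq (actM yCode x) x

/-- Elements of the stabiliser commuting with it. -/
noncomputable def commList : List ℕ :=
  match titsChain with
  | [] => []
  | _ :: ls => (elems ops ls).filter fun r => Nat.beq (mulM r yCode) (mulM yCode r)

theorem fixList_length : fixList.length = 5 := by decide +kernel

theorem commList_length : commList.length = 10 := by decide +kernel

theorem y_fix_check : (match titsChain with | [] => false | l :: _ => Nat.beq (actM yCode l.b) l.b) = true := by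
  decide +kernel

theorem centralizer_card : Nat.card (Subgroup.centralizer ({elp stabPath5} : Set ↥titsT)) ≤ 50 := by
  classical
  obtain ⟨l, ls, hL⟩ : ∃ l ls, titsChain = l :: ls := by
    cases h : titsChain with
    | nil => exact absurd titsChain_size (by rw [h]; decide)
    | cons l ls => exact ⟨l, ls, rfl⟩
  have hch := titsChain_ok
  rw [hL] at hch
  have hf : fixList = (l.orb.toList.map Ent.x).filter fun x => Nat.beq (actM yCode x) x := by
    simp only [fixList, hL]
  have hc : commList = (elems ops ls).filter fun r => Nat.beq (mulM r yCode) (mulM yCode r) := by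
    simp only [commList, hL]
  have hb : ops.act yCode l.b = l.b := by
    have h := y_fix_check
    simp only [hL] at h
    exact Nat.eq_of_beq_eq_true h
  have hy : coding.enc (elp stabPath5).1 = yCode := enc_elp _
  set C := Subgroup.centralizer ({elp stabPath5} : Set ↥titsT)
  haveI := Fintype.ofFinite C
  have hcomm : ∀ g : C, g.1.1 * (elp stabPath5).1 = (elp stabPath5).1 * g.1.1 := fun g => by
    have h := Subgroup.mem_centralizer_singleton_iff.1 g.2
    rw [← Subgroup.coe_mul, ← Subgroup.coe_mul, h]
  let f : C → ℕ := fun g => ops.act (coding.enc g.1.1) l.b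
  have himg : (Finset.univ.image f).card ≤ 5 := by
    rw [← fixList_length]
    refine le_trans (Finset.card_le_card ?_) (List.toFinset_card_le _)
    intro x hx
    obtain ⟨g, -, rfl⟩ := Finset.mem_image.1 hx
    rw [List.mem_toFinset, hf, List.mem_filter]
    obtain ⟨e, he, t, -, hx, -⟩ := exists_entry coding gensOK hch g.1.2
    refine ⟨List.mem_map.2 ⟨e, he, hx.symm⟩, ?_⟩
    rw [show Nat.beq (actM yCode (f g)) (f g) = true ↔ _ from Iff.rfl]
    refine (congrArg (Nat.beq · (f g)) ?_).trans (Nat.beq_refl _)
    show ops.act yCode (ops.act (coding.enc g.1.1) l.b) = _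
    rw [← hy, ← coding.act_mul, ← hcomm g, coding.act_mul, hy, hb]
  have hfib : ∀ x ∈ Finset.univ.image f, (Finset.univ.filter fun g => f g = x).card ≤ 10 := by
    intro x hx
    obtain ⟨g₀, -, rfl⟩ := Finset.mem_image.1 hx
    rw [← commList_length]
    refine le_trans ?_ (List.toFinset_card_le _)
    refine Finset.card_le_card_of_injOn (fun g => coding.enc (g₀⁻¹ * g).1.1) (fun g hg => ?_) ?_
    · have hg : f g = f g₀ := (Finset.mem_filter.1 hg).2
      simp only [Finset.mem_coe, List.mem_toFinset, hc, List.mem_filter]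
      have hfixb : ops.act (coding.enc (g₀⁻¹ * g).1.1) l.b = l.b := by
        show ops.act (coding.enc (g₀.1.1⁻¹ * g.1.1)) l.b = l.b
        rw [coding.act_mul, show ops.act (coding.enc g.1.1) l.b = ops.act (coding.enc g₀.1.1) l.b from hg,
          ← coding.act_mul, inv_mul_cancel]
        exact act_enc_one coding _
      refine ⟨enc_mem_elems coding (gensOK_next coding gensOK hch)
        (chainCheck_cons coding gensOK hch).2.2.2.2.2
        ((genGroup_next_eq coding gensOK hch).2 ⟨(g₀⁻¹ * g).1.2, hfixb⟩), ?_⟩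
      show Nat.beq (ops.mul _ yCode) (ops.mul yCode _) = true
      rw [← hy, coding.mul_enc, coding.mul_enc, hcomm]
      exact Nat.beq_refl _
    · intro a _ b _ e
      exact mul_left_cancel (Subtype.ext (Subtype.ext (coding.inj e)))
  have h := Finset.card_le_mul_card_image (Finset.univ : Finset C) 10 hfib
  rw [Finset.card_univ, ← Nat.card_eq_fintype_card] at h
  omega

theorem stab5_check : Nat.beq (mulM (pc toStabPath5) (pc letPath5)) (mulM yCode (pc toStabPath5)) = true := by
  decide +kernel

/-- The word of a power. -/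
noncomputable def powM (c : ℕ) : ℕ → ℕ
  | 0 => oneM
  | k + 1 => mulM c (powM c k)

theorem enc_pow (g : GL Cfsg.Lie.chevF4.Idx (ZMod 2)) : ∀ k, coding.enc (g ^ k) = powM (coding.enc g) k
  | 0 => by rw [pow_zero, powM]; exact coding.one_enc
  | k + 1 => by rw [pow_succ', powM, ← enc_pow g k]; exact (coding.mul_enc _ _).symm

theorem thirteen_check :
    (Nat.beq (powM (pc path13) 13) oneM && !Nat.beq (pc path13) oneM &&
      Nat.beq (mulM (pc normPath3) (pc path13)) (mulM (powM (pc path13) normExp) (pc normPath3)) &&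
      Nat.beq (mulM (pc toNormPath3) (pc letPath3)) (mulM (pc normPath3) (pc toNormPath3)) &&
      !Nat.beq (pc letPath3) oneM && !Nat.beq (pc letPath5) oneM && Nat.beq (powM (pc letPath3) 27) oneM) = true := by
  decide +kernel

/-- Possible degrees. -/
theorem degrees_check : ((List.range 4241).all fun n =>
    Nat.blt n 3 || !Nat.beq (17971200 % (n * n - n)) 0 || Nat.ble n 27 || Nat.beq n 40 || Nat.beq n 65) = true := by
  decide +kernel

theorem not_two_transitive {Ω : Type*} [Finite Ω] [MulAction ↥titsT Ω] [FaithfulSMul ↥titsT Ω]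
    (hn3 : 3 ≤ Nat.card Ω) : ¬ MulAction.IsMultiplyPretransitive ↥titsT Ω 2 := by
  intro h2
  haveI : Fact (Nat.Prime 3) := ⟨Nat.prime_three⟩
  haveI : Fact (Nat.Prime 13) := ⟨by norm_num⟩
  obtain ⟨a, b, hab⟩ : ∃ a b : Ω, a ≠ b := by
    haveI : Nontrivial Ω := Finite.one_lt_card_iff_nontrivial.1 (by omega)
    exact exists_pair_ne Ω
  obtain ⟨hcount, hpairs⟩ := Fixed.two_trans_counts h2 hab
  rw [card_titsT] at hcount
  -- conjugacy in the Sylow subgroups
  obtain ⟨hc3, he3⟩ := certGroup_spec titsSchur3_pres
  obtain ⟨hc5, he5⟩ := certGroup_spec titsSchur5_pres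
  rw [show titsSchur3.R.p ^ titsSchur3.R.k = 27 by decide +kernel] at hc3
  rw [show titsSchur5.R.p ^ titsSchur5.R.k = 25 by decide +kernel] at hc5
  obtain ⟨k3, hk3⟩ := Fixed.burnside (Ω := Ω) fun g hg h1 => isConj_of_check conj3_check (he3 g hg) h1
  obtain ⟨k5, hk5⟩ := Fixed.burnside (Ω := Ω) fun g hg h1 => isConj_of_check conj5_check (he5 g hg) h1
  rw [hc3] at hk3
  rw [hc5] at hk5
  -- the elements
  have h13 := thirteen_check
  simp only [Bool.and_eq_true, Bool.not_eq_true'] at h13
  obtain ⟨⟨⟨⟨⟨⟨hx13, hx1⟩, hnorm⟩, hw⟩, hz1⟩, hy1⟩, hz27⟩ := h13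
  have ne_one : ∀ xs, Nat.beq (pc xs) oneM = false → elp xs ≠ 1 := by
    intro xs h e
    have h' := enc_elp xs
    rw [e] at h'
    exact absurd ((congrArg (Nat.beq · oneM) (h'.symm.trans coding.one_enc)).trans (Nat.beq_refl _))
      (Bool.eq_false_iff.1 h)
  have conj_eq : ∀ c u v, Nat.beq (mulM (pc c) (pc u)) (mulM (pc v) (pc c)) = true →
      elp c * elp u * (elp c)⁻¹ = elp v := by
    intro c u v h
    rw [mul_inv_eq_iff_eq_mul]
    refine Subtype.ext (coding.inj ?_)
    simp only [Subgroup.coe_mul, ← coding.mul_enc, enc_elp]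
    exact Nat.eq_of_beq_eq_true h
  have pow_eq_one : ∀ xs k, Nat.beq (powM (pc xs) k) oneM = true → elp xs ^ k = 1 := by
    intro xs k h
    refine Subtype.ext (coding.inj ?_)
    rw [Subgroup.coe_pow, enc_pow, enc_elp, Subgroup.coe_one, coding.one_enc]
    exact Nat.eq_of_beq_eq_true h
  have hz := Fixed.fixN_lt (Ω := Ω) (ne_one _ hz1)
  have hy := Fixed.fixN_lt (Ω := Ω) (ne_one _ hy1)
  have hx := Fixed.fixN_lt (Ω := Ω) (ne_one _ hx1)
  have hyy : Fixed.fixN Ω (elp stabPath5) = Fixed.fixN Ω (elp letPath5) := by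
    rw [← conj_eq _ _ _ stab5_check, Fixed.fixN_conj]
  have hC := (hpairs (elp stabPath5)).trans centralizer_card
  rw [hyy] at hC
  have hxmod := Fixed.fixN_modEq (Ω := Ω) (p := 13) (k := 1) (by rw [pow_one]; exact pow_eq_one _ _ hx13)
  have hnormx : elp normPath3 * elp path13 * (elp normPath3)⁻¹ = elp path13 ^ normExp := by
    rw [mul_inv_eq_iff_eq_mul]
    refine Subtype.ext (coding.inj ?_)
    simp only [Subgroup.coe_mul, Subgroup.coe_pow, ← coding.mul_enc, enc_pow, enc_elp]
    exact Nat.eq_of_beq_eq_true hnorm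
  have hwz : Fixed.fixN Ω (elp normPath3) = Fixed.fixN Ω (elp letPath3) := by
    rw [← conj_eq _ _ _ hw, Fixed.fixN_conj]
  have hw27 : elp normPath3 ^ 3 ^ 3 = 1 := by
    rw [← conj_eq _ _ _ hw, conj_pow, pow_eq_one _ _ (show Nat.beq (powM (pc letPath3) (3 ^ 3)) oneM = true from hz27),
      mul_one, mul_inv_cancel]
  have hdiv : Fixed.fixN Ω (elp letPath3) = 0 → 3 ∣ Fixed.fixN Ω (elp path13) := fun h =>
    Fixed.dvd_fixN_of_normalizing hw27 hnormx (hwz.trans h)
  -- the degree
  generalize hn : Nat.card Ω = n at *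
  have hdvd : n * n - n ∣ 17971200 := ⟨_, hcount.symm⟩
  have hpos : 0 < Nat.card (MulAction.stabilizer ↥titsT (a, b)) := Nat.card_pos
  have hle : n * n - n ≤ 17971200 := Nat.le_of_dvd (by norm_num) hdvd
  have hn4 : n < 4241 := by
    by_contra hge
    have h1 : 4241 * n ≤ n * n := Nat.mul_le_mul_right n (by omega)
    omega
  have hcases := List.all_eq_true.1 degrees_check n (List.mem_range.2 hn4)
  rw [Nat.mod_eq_zero_of_dvd hdvd] at hcases
  simp only [Bool.or_eq_true, Nat.blt_eq, Nat.ble_eq, Nat.beq_refl, Bool.not_true, Bool.false_eq_true,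
    or_false, Nat.beq_eq] at hcases
  unfold Nat.ModEq at hxmod
  rcases hcases with ((h | h) | h) | h
  · omega
  · rcases Nat.lt_or_ge n 27 with h' | h'
    · omega
    · obtain rfl : n = 27 := by omega
      have := hdiv (by omega)
      omega
  all_goals
    subst h
    have h15 : 15 ≤ Fixed.fixN Ω (elp letPath5) := by omega
    have h14 : 15 * Fixed.fixN Ω (elp letPath5) ≤ Fixed.fixN Ω (elp letPath5) * Fixed.fixN Ω (elp letPath5) :=
      Nat.mul_le_mul_right _ h15
    omega

end Cfsg.Agent.Lib.Compute.Tits
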